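import Cfsg.Agent.BpTab.Base
import Cfsg.Agent.SignalizersComponents.PCompQuot
set_option linter.all false

/-!
# `Good p` and central quotients

* `good_quotient` : `Good p G → Z ≤ Z(G) → Good p (G / Z)`; `good_of_central_ker` for a surjective homomorphism with
  central kernel;
* `good_fixed_of_lift` : `π : X → Y` surjective with central kernel, `α` an automorphism of `X` lifting the automorphism
  `x` of `Y`: `Good p (C_X(α)) → Good p (C_Y(x))`.
-/

set_option autoImplicit false
set_option linter.unusedSectionVars false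

namespace Cfsg.Agent.BpLin

open Subgroup Cfsg Cfsg.Agent.Lib Cfsg.Agent.BpTab
open Cfsg.Agent.Intrinsic.Charac
open scoped commutatorElement

section Quot

variable {G : Type*} [Group G] [Finite G] {p : ℕ} [hp : Fact p.Prime]

/-- An element whose image is a `p`-element can be replaced by a power which is a `p`-element. -/
theorem exists_pow_pElem {G' : Type*} [Group G'] (f : G →* G') (y : G) {n : ℕ} (h : f y ^ p ^ n = 1) :
    ∃ k m : ℕ, (y ^ k) ^ p ^ m = 1 ∧ f (y ^ k) = f y := by
  rcases Nat.eq_zero_or_pos n with rfl | hn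
  · rw [pow_zero, pow_one] at h
    exact ⟨0, 0, by simp, by simp [h]⟩
  · obtain ⟨a, m, hm, hord⟩ := Nat.exists_eq_pow_mul_and_not_dvd (orderOf_pos y).ne' p hp.out.one_lt.ne'
    have hcop : Nat.Coprime m (p ^ n) :=
      Nat.Coprime.pow_right n ((Nat.Prime.coprime_iff_not_dvd hp.out).mpr hm).symm
    have hgt : 1 < p ^ n := Nat.one_lt_pow hn.ne' hp.out.one_lt
    obtain ⟨u, -, hu⟩ := Nat.exists_mul_mod_eq_one_of_coprime hcop hgt
    refine ⟨m * u, a, ?_, ?_⟩
    · rw [← pow_mul, show m * u * p ^ a = p ^ a * m * u by ring, ← hord, pow_mul, pow_orderOf_eq_one,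
        one_pow]
    · rw [map_pow]
      conv_lhs => rw [← Nat.div_add_mod (m * u) (p ^ n), hu, pow_add, pow_mul, h, one_pow, one_mul, pow_one]

theorem map_pElem_of_surjective {G' : Type*} [Group G'] (f : G →* G') (K : Subgroup G) :
    (PComponents.pElem p K).map f = PComponents.pElem p (K.map f) := by
  apply le_antisymm (pElem_map_le f K)
  refine (Subgroup.closure_le _).mpr ?_
  rintro _ ⟨⟨y, hy, rfl⟩, n, hn⟩
  obtain ⟨k, m, h1, h2⟩ := exists_pow_pElem f y hn
  exact ⟨y ^ k, PComponents.mem_pElem (K.pow_mem hy k) h1, h2⟩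

/-- A normal subgroup which is a central extension of a `p'`-group: its `p'`-core maps onto the quotient. -/
theorem core_quotient_le {Z : Subgroup G} [Z.Normal] (hZ : Z ≤ center G) :
    pPrimeCore p (G ⧸ Z) ≤ (pPrimeCore p G).map (QuotientGroup.mk' Z) := by
  set W : Subgroup G := (pPrimeCore p (G ⧸ Z)).comap (QuotientGroup.mk' Z) with hW
  have hWn : W.Normal := (Cores.pPrimeCore_normal p).comap _
  have hZW : Z ≤ W := by
    intro z hz
    have h1 : QuotientGroup.mk' Z z = 1 := (QuotientGroup.eq_one_iff z).mpr hz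
    rw [hW, mem_comap, h1]
    exact one_mem _
  -- the index of `Z` in `W` is prime to `p`
  have hidx : (Z.subgroupOf W).index.Coprime p := by
    have h1 : (Z.subgroupOf W).index ∣ Nat.card (pPrimeCore p (G ⧸ Z)) := by
      have h2 : ((QuotientGroup.mk' Z).subgroupMap W).ker = Z.subgroupOf W := by
        ext x
        rw [MonoidHom.mem_ker, Subtype.ext_iff, mem_subgroupOf]
        exact QuotientGroup.eq_one_iff (x : G)
      have h3 : W.map (QuotientGroup.mk' Z) = pPrimeCore p (G ⧸ Z) :=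
        Subgroup.map_comap_eq_self_of_surjective (QuotientGroup.mk'_surjective Z) _
      rw [← h2, Subgroup.index_ker, MonoidHom.range_eq_top.mpr ((QuotientGroup.mk' Z).subgroupMap_surjective W),
        Nat.card_congr (Subgroup.topEquiv).toEquiv, h3]
    exact (Cores.pPrimeCore_coprime (G := G ⧸ Z) p).coprime_dvd_left h1
  -- a Sylow `p`-subgroup of `W` is central
  obtain ⟨P⟩ := (inferInstance : Nonempty (Sylow p W))
  have hPZ : (P : Subgroup W) ≤ Z.subgroupOf W := by
    intro x hx
    rw [mem_subgroupOf]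
    obtain ⟨n, hn⟩ := P.isPGroup' ⟨x, hx⟩
    have hn' : (x : W) ^ p ^ n = 1 := congrArg Subtype.val hn
    have h1 : (QuotientGroup.mk x : W ⧸ Z.subgroupOf W) ^ (Z.subgroupOf W).index = 1 := by
      rw [Subgroup.index_eq_card]
      exact pow_card_eq_one'
    have h2 : (QuotientGroup.mk x : W ⧸ Z.subgroupOf W) ^ p ^ n = 1 := by
      rw [← QuotientGroup.mk_pow, hn', QuotientGroup.mk_one]
    have h3 : (QuotientGroup.mk x : W ⧸ Z.subgroupOf W) ^ ((Z.subgroupOf W).index.gcd (p ^ n)) = 1 :=
      pow_gcd_eq_one.mpr ⟨h1, h2⟩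
    rw [Nat.Coprime.pow_right n hidx, pow_one, QuotientGroup.eq_one_iff, mem_subgroupOf] at h3
    exact h3
  have hPc : ∀ x ∈ (P : Subgroup W), ∀ y : W, x * y = y * x := by
    intro x hx y
    apply Subtype.ext
    exact ((Subgroup.mem_center_iff.mp (hZ (mem_subgroupOf.mp (hPZ hx)))) y).symm
  have hPn : (P : Subgroup W).Normal := by
    refine ⟨fun x hx g => ?_⟩
    rw [← hPc x hx g, mul_inv_cancel_right]
    exact hx
  obtain ⟨H, hH⟩ := Subgroup.exists_right_complement'_of_coprime (N := (P : Subgroup W))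
    (by
      obtain ⟨n, hn⟩ := P.isPGroup'.exists_card_eq
      rw [hn]
      exact Nat.Coprime.pow_left n ((Nat.Prime.coprime_iff_not_dvd hp.out).mpr P.not_dvd_index))
  have hHcop : (Nat.card H).Coprime p := by
    have h1 : Nat.card H = (P : Subgroup W).index := hH.symm.card_left
    rw [h1]
    exact ((Nat.Prime.coprime_iff_not_dvd hp.out).mpr P.not_dvd_index).symm
  have hHn : H.Normal := by
    refine ⟨fun x hx g => ?_⟩
    obtain ⟨⟨a, b⟩, hab⟩ := hH.2 g
    have hab' : (a : W) * (b : W) = g := hab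
    rw [← hab']
    have h1 : (a : W) * b * x * ((a : W) * b)⁻¹ = b * x * (b : W)⁻¹ := by
      have h2 := hPc a a.2 ((b : W) * x * (b : W)⁻¹)
      calc (a : W) * b * x * ((a : W) * b)⁻¹ = (a : W) * ((b : W) * x * (b : W)⁻¹) * (a : W)⁻¹ := by group
        _ = _ := by rw [h2, mul_inv_cancel_right]
    rw [h1]
    exact H.mul_mem (H.mul_mem b.2 hx) (H.inv_mem b.2)
  -- `H` lies in the core
  have hHle : H.map W.subtype ≤ pPrimeCore p G := by
    apply PComponents.le_pPrimeCore_of_isSubnormal
    · exact hHn.isSubnormal.trans' hWn.isSubnormal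
    · rw [Nat.card_congr (H.equivMapOfInjective _ W.subtype_injective).toEquiv.symm]
      exact hHcop
  intro y hy
  obtain ⟨x, rfl⟩ := QuotientGroup.mk'_surjective Z y
  have hx : x ∈ W := hy
  obtain ⟨⟨a, b⟩, hab⟩ := hH.2 ⟨x, hx⟩
  have hab' : (a : W) * (b : W) = ⟨x, hx⟩ := hab
  refine ⟨((b : W) : G), hHle ⟨_, b.2, rfl⟩, ?_⟩
  have h1 : x = ((a : W) : G) * ((b : W) : G) := (congrArg Subtype.val hab').symm
  rw [h1, map_mul]
  have h2 : QuotientGroup.mk' Z ((a : W) : G) = 1 :=
    (QuotientGroup.eq_one_iff _).mpr (mem_subgroupOf.mp (hPZ a.2))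
  rw [h2, one_mul]

theorem core_le_map {G' : Type*} [Group G'] {f : G →* G'} (hf : Function.Surjective f) (hk : f.ker ≤ center G) :
    pPrimeCore p G' ≤ (pPrimeCore p G).map f := by
  have h1 := core_quotient_le (p := p) hk
  set e := QuotientGroup.quotientKerEquivOfSurjective f hf with he
  have h2 := Cores.map_equiv_pPrimeCore e p
  rw [← h2]
  refine (Subgroup.map_mono h1).trans ?_
  rw [Subgroup.map_map]
  refine le_of_eq ?_
  congr 1

theorem quasisimple_of_surjective_central {A B : Type*} [Group A] [Group B] {f : A →* B}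
    (hf : Function.Surjective f) (hk : f.ker ≤ center A) (hp : Group.IsPerfect A) (hB : IsQuasisimple B) :
    IsQuasisimple A :=
  SignalizersComponents.PCompQuot.quasisimple_of_central_quotient hp hk
    (SignalizersComponents.PCompQuot.quasisimple_congr
      (QuotientGroup.quotientKerEquivOfSurjective f hf).symm hB)

/-- A `p`-component of a central quotient lifts to a `p`-component. -/
theorem exists_lift_pcomp {Z : Subgroup G} [Z.Normal] (hZ : Z ≤ center G) {K' : Subgroup (G ⧸ Z)}
    (hK : IsPComponent p K') : ∃ K : Subgroup G, IsPComponent p K ∧ K.map (QuotientGroup.mk' Z) = K' := by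
  have hperf := PComponents.pcomp_perfect hK
  have hel := PComponents.pElem_pcomp hK
  set π := QuotientGroup.mk' Z with hπ
  have hπs : Function.Surjective π := QuotientGroup.mk'_surjective Z
  set K₁ : Subgroup G := K'.comap π with hK₁
  have hm₁ : K₁.map π = K' := Subgroup.map_comap_eq_self_of_surjective hπs _
  set K : Subgroup G := ⁅K₁, K₁⁆ with hKdef
  have hmK : K.map π = K' := by rw [hKdef, Subgroup.map_commutator, hm₁, hperf]
  have hKle : K ≤ K₁ := commutator_le_self K₁
  -- every element of `K₁` is a product of an element of `K` and a central element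
  have hdec : ∀ (M : Subgroup G), M.map π = K' → ∀ x ∈ K₁, ∃ k ∈ M, ∃ z ∈ Z, x = k * z := by
    intro M hM x hx
    have h1 : π x ∈ M.map π := by rw [hM]; exact hx
    obtain ⟨k, hk, hkx⟩ := h1
    exact ⟨k, hk, k⁻¹ * x, by
      rw [← QuotientGroup.eq_one_iff]
      change π (k⁻¹ * x) = 1
      rw [map_mul, map_inv, hkx, inv_mul_cancel], by group⟩
  have hcomm : ∀ (M : Subgroup G), M.map π = K' → K ≤ ⁅M, M⁆ := by
    intro M hM
    rw [hKdef, Subgroup.commutator_le]
    intro x hx y hy
    obtain ⟨k, hk, z, hz, rfl⟩ := hdec M hM x hx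
    obtain ⟨l, hl, w, hw, rfl⟩ := hdec M hM y hy
    have hz' := fun g => Subgroup.mem_center_iff.mp (hZ hz) g
    have hw' := fun g => Subgroup.mem_center_iff.mp (hZ hw) g
    have h1 : ⁅k * z, l * w⁆ = ⁅k, l⁆ := by
      rw [commutatorElement_def, commutatorElement_def, mul_inv_rev, mul_inv_rev]
      calc k * z * (l * w) * (z⁻¹ * k⁻¹) * (w⁻¹ * l⁻¹)
          = k * (z * (l * w)) * z⁻¹ * k⁻¹ * w⁻¹ * l⁻¹ := by group
        _ = k * (l * w) * k⁻¹ * w⁻¹ * l⁻¹ := by rw [← hz' (l * w)]; group
        _ = k * l * (w * k⁻¹) * w⁻¹ * l⁻¹ := by group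
        _ = k * l * k⁻¹ * l⁻¹ := by rw [← hw' k⁻¹]; group
    rw [h1]
    exact Subgroup.commutator_mem_commutator hk hl
  have hKperf : ⁅K, K⁆ = K := le_antisymm (commutator_le_self K) (hcomm K hmK)
  have hKel : PComponents.pElem p K = K := by
    apply le_antisymm (PComponents.pElem_le K)
    have h1 : (PComponents.pElem p K).map π = K' := by rw [map_pElem_of_surjective, hmK, hel]
    exact (hcomm _ h1).trans (commutator_le_self _)
  have hKsub : K.IsSubnormal := by
    have h1 : K₁.IsSubnormal := hK.1.comap π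
    refine Subgroup.IsSubnormal.trans hKle ?_ h1
    apply Subgroup.Normal.isSubnormal
    rw [Subgroup.normal_subgroupOf_iff_le_normalizer hKle, Subgroup.le_normalizer_iff_commutator_le_left]
    exact Subgroup.commutator_mono hKle le_rfl
  refine ⟨K, isPComponent_iff.mpr ⟨hKsub, ?_, hKel⟩, hmK⟩
  -- `K / O_{p'}(K)` is quasisimple
  have hq : IsQuasisimple (↥K' ⧸ pPrimeCore p ↥K') := SignalizersComponents.PCompQuot.quasisimple_quotient hK
  have hnK := Cores.pPrimeCore_normal (G := ↥K) p
  have hnK' := Cores.pPrimeCore_normal (G := ↥K') p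
  let f : ↥K →* ↥K' := ((MulEquiv.subgroupCongr hmK).toMonoidHom).comp (π.subgroupMap K)
  have hf : Function.Surjective f :=
    (MulEquiv.subgroupCongr hmK).surjective.comp (π.subgroupMap_surjective K)
  have hfk : f.ker ≤ center ↥K := by
    intro x hx
    rw [MonoidHom.mem_ker] at hx
    have h1 : π (x : G) = 1 := congrArg Subtype.val hx
    have h2 : (x : G) ∈ Z := (QuotientGroup.eq_one_iff _).mp h1
    rw [Subgroup.mem_center_iff]
    intro g
    exact Subtype.ext (Subgroup.mem_center_iff.mp (hZ h2) g)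
  have hcore : pPrimeCore p ↥K ≤ (pPrimeCore p ↥K').comap f := by
    rw [← Subgroup.map_le_iff_le_comap]
    exact map_core_le hf
  let g : ↥K ⧸ pPrimeCore p ↥K →* ↥K' ⧸ pPrimeCore p ↥K' := QuotientGroup.map _ _ f hcore
  have hg : Function.Surjective g := by
    intro y
    obtain ⟨y, rfl⟩ := QuotientGroup.mk'_surjective _ y
    obtain ⟨x, rfl⟩ := hf y
    exact ⟨QuotientGroup.mk x, rfl⟩
  refine quasisimple_of_surjective_central hg ?_ ?_ hq
  · intro x hx
    obtain ⟨x, rfl⟩ := QuotientGroup.mk'_surjective _ x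
    have h1 : f x ∈ pPrimeCore p ↥K' := (QuotientGroup.eq_one_iff (f x)).mp hx
    obtain ⟨w, hw, hwx⟩ := core_le_map hf hfk h1
    have h2 : w⁻¹ * x ∈ f.ker := by rw [MonoidHom.mem_ker, map_mul, map_inv, hwx, inv_mul_cancel]
    have h3 := hfk h2
    rw [Subgroup.mem_center_iff]
    intro y
    obtain ⟨y, rfl⟩ := QuotientGroup.mk'_surjective _ y
    have h4 := Subgroup.mem_center_iff.mp h3 y
    have h5 : QuotientGroup.mk' (pPrimeCore p ↥K) x = QuotientGroup.mk' (pPrimeCore p ↥K) (w⁻¹ * x) := by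
      rw [map_mul, map_inv]
      have h6 : QuotientGroup.mk' (pPrimeCore p ↥K) w = 1 := (QuotientGroup.eq_one_iff w).mpr hw
      rw [h6, inv_one, one_mul]
    rw [h5, ← map_mul, h4, map_mul]
  · have h1 : Group.IsPerfect ↥K := Subgroup.isPerfect_iff.mpr hKperf
    exact Group.IsPerfect.ofSurjective (f := QuotientGroup.mk' (pPrimeCore p ↥K)) (QuotientGroup.mk'_surjective _)

/-- `Good p` passes to central quotients. -/
theorem good_of_central_ker {G' : Type*} [Group G'] [Finite G'] (h : Good p G) {f : G →* G'}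
    (hf : Function.Surjective f) (hk : f.ker ≤ center G) : Good p G' := by
  have hq : Good p (G ⧸ f.ker) := by
    have h1 : pLayer p (G ⧸ f.ker) ≤ (pLayer p G).map (QuotientGroup.mk' f.ker) := by
      refine sSup_le fun K' hK' => ?_
      obtain ⟨K, hK, rfl⟩ := exists_lift_pcomp hk hK'
      exact Subgroup.map_mono (le_sSup hK)
    unfold Good
    rw [eq_bot_iff]
    calc ⁅pLayer p (G ⧸ f.ker), pPrimeCore p (G ⧸ f.ker)⁆
        ≤ ⁅(pLayer p G).map (QuotientGroup.mk' f.ker), (pPrimeCore p G).map (QuotientGroup.mk' f.ker)⁆ :=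
          Subgroup.commutator_mono h1 (core_quotient_le hk)
      _ = (⁅pLayer p G, pPrimeCore p G⁆).map (QuotientGroup.mk' f.ker) := (Subgroup.map_commutator _ _ _).symm
      _ = ⊥ := by rw [h, Subgroup.map_bot]
      _ ≤ ⊥ := le_rfl
  exact hq.congr (QuotientGroup.quotientKerEquivOfSurjective f hf)

theorem good_quotient (h : Good p G) {Z : Subgroup G} [Z.Normal] (hZ : Z ≤ center G) : Good p (G ⧸ Z) :=
  good_of_central_ker h (QuotientGroup.mk'_surjective Z) (by rwa [QuotientGroup.ker_mk'])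

end Quot

section Lift

variable {X Y : Type*} [Group X] [Finite X] [Group Y] [Finite Y] {p : ℕ} [hp : Fact p.Prime]

/-- `π : X → Y` surjective with central kernel, `α` an automorphism of `X` lifting the automorphism `x` of `Y`. -/
theorem good_fixed_of_lift {π : X →* Y} (hπ : Function.Surjective π) (hker : π.ker ≤ center X) {α : MulAut X}
    {x : MulAut Y} (hc : ∀ g, π (α g) = x (π g)) (h : Good p ↥(fixedSubgroup α)) :
    Good p ↥(fixedSubgroup x) := by
  have hle : ∀ g ∈ fixedSubgroup α, π g ∈ fixedSubgroup x := by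
    intro g hg
    have h1 : α g = g := hg
    change x (π g) = π g
    rw [← hc, h1]
  let f : ↥(fixedSubgroup α) →* ↥(fixedSubgroup x) :=
    (π.comp (fixedSubgroup α).subtype).codRestrict (fixedSubgroup x) fun g => hle g g.2
  have hfk : f.ker ≤ center ↥(fixedSubgroup α) := by
    intro g hg
    have h1 : π (g : X) = 1 := congrArg Subtype.val (MonoidHom.mem_ker.mp hg)
    rw [Subgroup.mem_center_iff]
    intro y
    exact Subtype.ext (Subgroup.mem_center_iff.mp (hker h1) y)
  have hcom : commutator ↥(fixedSubgroup x) ≤ f.range := by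
    rw [commutator_def, Subgroup.commutator_le]
    rintro ⟨y₁, hy₁⟩ - ⟨y₂, hy₂⟩ -
    obtain ⟨g₁, rfl⟩ := hπ y₁
    obtain ⟨g₂, rfl⟩ := hπ y₂
    have hzz : ∀ g, π g ∈ fixedSubgroup x → ∃ z ∈ center X, α g = g * z := by
      intro g hg
      refine ⟨g⁻¹ * α g, hker ?_, by group⟩
      have h1 : x (π g) = π g := hg
      rw [MonoidHom.mem_ker, map_mul, map_inv, hc, h1, inv_mul_cancel]
    obtain ⟨z, hz1, hz⟩ := hzz g₁ hy₁
    obtain ⟨w, hw1, hw⟩ := hzz g₂ hy₂
    have hz' := fun g => Subgroup.mem_center_iff.mp hz1 g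
    have hw' := fun g => Subgroup.mem_center_iff.mp hw1 g
    have h1 : α ⁅g₁, g₂⁆ = ⁅g₁, g₂⁆ := by
      rw [commutatorElement_def, map_mul, map_mul, map_mul, map_inv, map_inv, hz, hw, mul_inv_rev, mul_inv_rev]
      calc g₁ * z * (g₂ * w) * (z⁻¹ * g₁⁻¹) * (w⁻¹ * g₂⁻¹)
          = g₁ * (z * (g₂ * w)) * z⁻¹ * g₁⁻¹ * w⁻¹ * g₂⁻¹ := by group
        _ = g₁ * (g₂ * w) * g₁⁻¹ * w⁻¹ * g₂⁻¹ := by rw [← hz' (g₂ * w)]; group
        _ = g₁ * g₂ * (w * g₁⁻¹) * w⁻¹ * g₂⁻¹ := by group
        _ = g₁ * g₂ * g₁⁻¹ * g₂⁻¹ := by rw [← hw' g₁⁻¹]; group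
    refine ⟨⟨⁅g₁, g₂⁆, h1⟩, ?_⟩
    apply Subtype.ext
    exact map_commutatorElement π g₁ g₂
  have hn : f.range.Normal := by
    refine ⟨fun a ha g => ?_⟩
    have h1 : g * a * g⁻¹ * a⁻¹ ∈ commutator ↥(fixedSubgroup x) := by
      rw [commutator_def, ← commutatorElement_def]
      exact Subgroup.commutator_mem_commutator (Subgroup.mem_top _) (Subgroup.mem_top _)
    have h2 := f.range.mul_mem (hcom h1) ha
    rwa [inv_mul_cancel_right] at h2
  have hg : Good p ↥f.range := by
    refine good_of_central_ker h (f := f.rangeRestrict) f.rangeRestrict_surjective ?_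
    rw [MonoidHom.ker_rangeRestrict]
    exact hfk
  refine Good.of_solvable_quotient (N := f.range) hg ?_
  refine Group.isSolvable_of_comm fun a b => ?_
  obtain ⟨a, rfl⟩ := QuotientGroup.mk'_surjective _ a
  obtain ⟨b, rfl⟩ := QuotientGroup.mk'_surjective _ b
  rw [← commutatorElement_eq_one_iff_mul_comm, ← map_commutatorElement]
  refine (QuotientGroup.eq_one_iff _).mpr (hcom ?_)
  rw [commutator_def]
  exact Subgroup.commutator_mem_commutator (Subgroup.mem_top _) (Subgroup.mem_top _)

/-- The quotient by the centre. -/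
theorem good_fixed_quotient_center {α : MulAut X} {x : MulAut (X ⧸ center X)}
    (hc : ∀ g : X, (QuotientGroup.mk (α g) : X ⧸ center X) = x (QuotientGroup.mk g))
    (h : Good p ↥(fixedSubgroup α)) : Good p ↥(fixedSubgroup x) :=
  good_fixed_of_lift (π := QuotientGroup.mk' (center X)) (QuotientGroup.mk'_surjective _)
    (by rw [QuotientGroup.ker_mk']) hc h

end Lift

end Cfsg.Agent.BpLin
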